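import Cfsg.Agent.H536.T5.DataB
import Cfsg.Agent.H536.T5.FiveC
import Cfsg.Agent.CpAutHNFive.Main
import Cfsg.Agent.H533.T5.SporDefs_m3
import Cfsg.Agent.KFacts.HN.Sheet
import Cfsg.Agent.S1701
import Cfsg.Agent.FastGrp
import Cfsg.Agent.Prune
set_option linter.all false
prune_inst 0x7f00000000000000000000000000000000000000000000000000000000000000000000000000000000000000000000000000000000000000000000000000000000000000000000000000000000000000003fffffffffffffffffffffffffffbeffbdffffffff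
open scoped Cfsg.Agent.FastGrp

/-!
# The weak row `(HN, 5)` (helper536, task T5-SP4)

* `exists_rep` : an element of order 5 of `HN` has a power conjugate to one of the four elements `w1, w2, w3, aa`;
* `wpair` : all pairs of elements of order 5;
* `hn` : the row.
-/

set_option autoImplicit false
set_option maxRecDepth 100000

namespace Cfsg.Agent.H536.T5

open Cfsg.Agent.HN.Pres Cfsg.Agent.HN.H0Basic
open Cfsg.Agent.HN.P1408 hiding ψ
open Cfsg.Agent.HN.XWords (W0 W0_sq V V_hw)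
open Cfsg.Agent.HN.NormalH (ψ)
open Cfsg Cfsg.Agent
open Cfsg.Agent.KFacts.HN
open Cfsg.Agent.CpAutHN.PPFacts (isPGroup_ker)
open Cfsg.Agent.CpAutHNFive Cfsg.Agent.CpAutHNFive.LFive Cfsg.Agent.CpAutHNFive.PFive
open Cfsg.Agent.CpAutHNFive.HTab hiding c5
open Cfsg.Agent.CpAutHNFive.HFacts
open Cfsg.Agent.H533.T5
open Subgroup

universe u

/-! ### Representatives -/

section rep

variable {G : Type*} [Group G]

/-- `r` is conjugate to a power of `x` -/
def RepOf (x r : G) : Prop := ∃ (g : G) (i : ℕ), r = g * x ^ i * g⁻¹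

theorem RepOf.trans {x y r : G} (h : RepOf x y) (h' : RepOf y r) : RepOf x r := by
  obtain ⟨g, i, rfl⟩ := h
  obtain ⟨k, j, rfl⟩ := h'
  refine ⟨k * g, i * j, ?_⟩
  rw [conj_pow, ← pow_mul]
  group

theorem RepOf.of_conj (g x : G) : RepOf x (g * x * g⁻¹) := ⟨g, 1, by rw [pow_one]⟩

theorem RepOf.map {H : Type*} [Group H] (f : G →* H) {x r : G} (h : RepOf x r) : RepOf (f x) (f r) := by
  obtain ⟨g, i, rfl⟩ := h
  exact ⟨f g, i, by simp⟩

/-- from a conjugate of a power to a power -/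
theorem repOf_of_pow {x r g : G} {i m : ℕ} (hr : r ^ 5 = 1) (hm : m % 5 ≠ 0) (h : g * x ^ i * g⁻¹ = r ^ m) :
    RepOf x r := by
  obtain ⟨k, hk⟩ := Five.exists_inv5 hm
  refine ⟨g, i * k, ?_⟩
  have e : (r ^ m) ^ k = r := by rw [← pow_mul, pow_eq_pow_mod _ hr, hk, pow_one]
  rw [pow_mul, ← conj_pow, h, e]

/-- the pairs from the representatives -/
theorem wpair_of_rep {x y r s : G} (h1 : RepOf x r) (h2 : RepOf y s) (h : WPair 5 (⊤ : Subgroup G) r s) :
    WPair 5 (⊤ : Subgroup G) x y := by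
  obtain ⟨g, i, rfl⟩ := h1
  obtain ⟨k, j, rfl⟩ := h2
  refine WPair.of_pow (i : ℤ) (j : ℤ) ?_
  rw [zpow_natCast, zpow_natCast]
  exact WPair.conj_left (mem_top g) (WPair.conj_right (mem_top k) h)

/-- a common representative -/
theorem wpair_of_same [Finite G] [IsSimpleGroup G] (hna : ¬ IsMulCommutative G) {x y r : G} (h1 : RepOf x r)
    (h2 : RepOf y r) (hr : r ≠ 1) : WPair 5 (⊤ : Subgroup G) x y := by
  have : Fact (Nat.Prime 5) := ⟨Nat.prime_five⟩
  obtain ⟨g, i, hg⟩ := h1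
  obtain ⟨k, j, hk⟩ := h2
  refine wpair_of_isConj hna (i := i) (j := j) ?_ ?_
  · refine isConj_iff.2 ⟨g⁻¹ * k, ?_⟩
    calc g⁻¹ * k * y ^ j * (g⁻¹ * k)⁻¹ = g⁻¹ * (k * y ^ j * k⁻¹) * g := by group
      _ = x ^ i := by rw [← hk, hg]; group
  · intro h
    apply hr
    rw [hg, h, mul_one, mul_inv_cancel]

theorem wpair_of_prd {x y : G} (h : Prd x y) : WPair 5 (⊤ : Subgroup G) x y := by
  obtain ⟨g, g', hg, h1, h24⟩ := h
  have hg' : g' = g⁻¹ := (inv_eq_of_mul_eq_one_right hg).symm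
  subst hg'
  refine ⟨g, mem_top g, fun hP => h1 ?_⟩
  have hm : x * (g * y * g⁻¹) ∈ closure ({x, g * y * g⁻¹} : Set G) :=
    mul_mem (subset_closure (by simp)) (subset_closure (by simp))
  obtain ⟨k, hk⟩ := hP ⟨_, hm⟩
  have hk' : (x * (g * y * g⁻¹)) ^ 5 ^ k = 1 := congrArg Subtype.val hk
  have e : x * g * y * g⁻¹ = x * (g * y * g⁻¹) := by group
  rw [e] at h24 ⊢
  have hcop : Nat.gcd 24 (5 ^ k) = 1 := Nat.Coprime.pow_right k (by norm_num)
  have h2 := orderOf_dvd_of_pow_eq_one h24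
  have h3 := orderOf_dvd_of_pow_eq_one hk'
  have h4 := Nat.dvd_gcd h2 h3
  rw [hcop, Nat.dvd_one, orderOf_eq_one_iff] at h4
  exact h4

theorem WPair.symm' {x y : G} (h : WPair 5 (⊤ : Subgroup G) x y) : WPair 5 (⊤ : Subgroup G) y x :=
  Cfsg.Agent.H533.T5.WPair.symm h

end rep

/-! ### The four elements -/

local instance : Fact (Nat.Prime 5) := ⟨Nat.prime_five⟩

theorem zw_eq : V zw = ψ (hw w1) := (V_hw (a := zw) (by decide)).symm
theorem w2w_eq : V w2w = ψ (hw w2) := (V_hw (a := w2w) (by decide)).symm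
theorem w3w_eq : V w3w = ψ (hw w3) := (V_hw (a := w3w) (by decide)).symm

theorem ne_w1 : V zw ≠ 1 := by
  rw [zw_eq]; intro h; exact w1_ne (emb.inj (by rw [h, map_one]))
theorem ne_w2 : V w2w ≠ 1 := by
  rw [w2w_eq]; intro h; exact w2_ne (emb.inj (by rw [h, map_one]))
theorem ne_w3 : V w3w ≠ 1 := by
  rw [w3w_eq]; intro h; exact w3_ne (emb.inj (by rw [h, map_one]))

theorem w1_5 : V zw ^ 5 = 1 := by rw [zw_eq, ← map_pow, w1_five, map_one]
theorem w2_5 : V w2w ^ 5 = 1 := by rw [w2w_eq, ← map_pow, w2_five, map_one]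
theorem w3_5 : V w3w ^ 5 = 1 := by rw [w3w_eq, ← map_pow, w3_five, map_one]

/-- the relations -/
theorem dat : ∃ n1 n2 n3 n4 v u : Cfsg.Spor.HN, Five.Dat (V zw) n1 n2 n3 n4 aa (ψ τ) W0 v u := by
  have := Cfsg.Agent.S1701.result.1
  have h := DataA.dat
  rw [DataA.a_eq, DataA.v_z, DataA.v_t, DataA.v_W] at h
  have ht : V [0, 0] = ψ τ := by
    rw [← V_hw (a := [0, 0]) (by decide), hw_τ]
  rw [ht] at h
  exact ⟨_, _, _, _, _, _, h⟩

theorem card_HN : Nat.card Cfsg.Spor.HN = 273030912000000 := Cfsg.Agent.S1701.result.2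

theorem aa_5 : aa ^ 5 = 1 := by
  obtain ⟨_, _, _, _, _, _, h⟩ := dat
  exact h.a5

theorem tr_one : DataT.tr (1 : Cfsg.Spor.HN) = 9 := by
  have h : DataT.tr (1 : Cfsg.Spor.HN) = Matrix.trace (1 : Matrix (Fin 133) (Fin 133) (ZMod 31)) := by
    unfold DataT.tr
    rw [map_one]
    rfl
  rw [h, Matrix.trace_one, Fintype.card_fin]
  decide

theorem ne_aa : aa ≠ 1 := by
  intro h
  have h1 := DataT.tr_a
  rw [h, tr_one] at h1
  exact absurd h1 (by decide)

/-- powers of a conjugate -/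
theorem tr_of_rep {x r : Cfsg.Spor.HN} (hx : x ^ 5 = 1) (hr : r ≠ 1) (h : RepOf x r) :
    DataT.tr r = DataT.tr x ∨ DataT.tr r = DataT.tr (x ^ 2) ∨ DataT.tr r = DataT.tr (x ^ 3) ∨
      DataT.tr r = DataT.tr (x ^ 4) := by
  obtain ⟨g, i, hg⟩ := h
  have h1 : DataT.tr r = DataT.tr (x ^ (i % 5)) := by
    rw [← pow_eq_pow_mod i hx]
    exact (DataT.tr_conj (isConj_iff.2 ⟨g, hg.symm⟩)).symm
  have h2 : i % 5 = 0 ∨ i % 5 = 1 ∨ i % 5 = 2 ∨ i % 5 = 3 ∨ i % 5 = 4 := by omega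
  rcases h2 with h2 | h2 | h2 | h2 | h2
  · exfalso
    apply hr
    rw [hg, pow_eq_pow_mod i hx, h2, pow_zero, mul_one, mul_inv_cancel]
  · rw [h2, pow_one] at h1; exact Or.inl h1
  · rw [h2] at h1; exact Or.inr (Or.inl h1)
  · rw [h2] at h1; exact Or.inr (Or.inr (Or.inl h1))
  · rw [h2] at h1; exact Or.inr (Or.inr (Or.inr h1))

theorem not_a_w3 : ¬ RepOf aa (V w3w) := by
  intro h
  rcases tr_of_rep aa_5 ne_w3 h with h | h | h | h
  · rw [DataT.tr_w3, DataT.tr_a] at h; exact absurd h (by decide)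
  · rw [DataT.tr_w3, DataT.tr_a_2] at h; exact absurd h (by decide)
  · rw [DataT.tr_w3, DataT.tr_a_3] at h; exact absurd h (by decide)
  · rw [DataT.tr_w3, DataT.tr_a_4] at h; exact absurd h (by decide)

theorem not_a_w1 : ¬ RepOf aa (V zw) := by
  intro h
  rcases tr_of_rep aa_5 ne_w1 h with h | h | h | h
  · rw [DataT.tr_w1, DataT.tr_a] at h; exact absurd h (by decide)
  · rw [DataT.tr_w1, DataT.tr_a_2] at h; exact absurd h (by decide)
  · rw [DataT.tr_w1, DataT.tr_a_3] at h; exact absurd h (by decide)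
  · rw [DataT.tr_w1, DataT.tr_a_4] at h; exact absurd h (by decide)

theorem not_w1_w3 : ¬ RepOf (V zw) (V w3w) := by
  intro h
  rcases tr_of_rep w1_5 ne_w3 h with h | h | h | h
  · rw [DataT.tr_w3, DataT.tr_w1] at h; exact absurd h (by decide)
  · rw [DataT.tr_w3, DataT.tr_w1_2] at h; exact absurd h (by decide)
  · rw [DataT.tr_w3, DataT.tr_w1_3] at h; exact absurd h (by decide)
  · rw [DataT.tr_w3, DataT.tr_w1_4] at h; exact absurd h (by decide)

/-! ### The elements of `PP` -/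

/-- the three types -/
noncomputable def ty : Fin 3 → Lq := ![φA c5, φA c5 * φB c5, φA c5 * φB (c5 ^ 3)]

/-- `x` has type `k` -/
def Ty (k : Fin 3) (x : PP) : Prop := ∃ (g : PP) (m : ℕ), m % 5 ≠ 0 ∧ ρ (g * x ^ m * g⁻¹) = ty k

theorem exists_ty [Finite Cfsg.Spor.HN] {x : PP} (hx : orderOf x = 5) : ∃ k, Ty k x := by
  obtain ⟨g, m, hm1, hm5, h⟩ := conj_std hx
  have hm : m % 5 ≠ 0 := by omega
  rcases h with h | h | h
  · exact ⟨0, g, m, hm, h⟩
  · exact ⟨1, g, m, hm, h⟩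
  · exact ⟨2, g, m, hm, h⟩

theorem order_conj_pow {x g : PP} (hx : orderOf x = 5) {m : ℕ} (hm : m % 5 ≠ 0) : orderOf (g * x ^ m * g⁻¹) = 5 := by
  have hx5 : x ^ 5 = 1 := by rw [← hx, pow_orderOf_eq_one]
  refine orderOf_eq_prime ?_ ?_
  · rw [conj_pow, ← pow_mul, mul_comm, pow_mul, hx5, one_pow, mul_one, mul_inv_cancel]
  · intro h
    rw [conj_eq_one_iff] at h
    have := orderOf_dvd_of_pow_eq_one h
    rw [hx] at this
    omega

theorem repOf_of_ty {k : Fin 3} {x y : PP} (hx : orderOf x = 5) (hy : orderOf y = 5) (h1 : Ty k x) (h2 : Ty k y) :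
    RepOf (x : Cfsg.Spor.HN) (y : Cfsg.Spor.HN) := by
  obtain ⟨g, m, hm, hg⟩ := h1
  obtain ⟨g', m', hm', hg'⟩ := h2
  obtain ⟨q, -, hq⟩ := CpAutTh.RankOne.conj_of_quot Nat.prime_two Nat.prime_five (by norm_num) ρ isPGroup_ker
    (order_conj_pow (g := g) hx hm) (order_conj_pow (g := g') hy hm') (hg.trans hg'.symm)
  have e : (g'⁻¹ * q * g) * x ^ m * (g'⁻¹ * q * g)⁻¹ = y ^ m' := by
    calc (g'⁻¹ * q * g) * x ^ m * (g'⁻¹ * q * g)⁻¹ = g'⁻¹ * (q * (g * x ^ m * g⁻¹) * q⁻¹) * g' := by group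
      _ = g'⁻¹ * (g' * y ^ m' * g'⁻¹) * g' := by rw [hq]
      _ = y ^ m' := by group
  have hy5 : y ^ 5 = 1 := by rw [← hy, pow_orderOf_eq_one]
  exact (repOf_of_pow hy5 hm' e).map PP.subtype

theorem fin3 : ∀ i j k l : Fin 3, i ≠ j → i ≠ k → j ≠ k → l = i ∨ l = j ∨ l = k := by decide

/-- **the elements of order 5 of `PP`** -/
theorem rep_PP {x : PP} (hx : orderOf x = 5) : RepOf (x : Cfsg.Spor.HN) (V zw) ∨ RepOf (x : Cfsg.Spor.HN) (V w3w) ∨
    RepOf (x : Cfsg.Spor.HN) aa := by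
  have hfin : Finite Cfsg.Spor.HN := Nat.finite_of_card_ne_zero (by rw [card_HN]; norm_num)
  obtain ⟨_, _, _, _, _, _, D⟩ := dat
  -- the three elements
  have p1 : V zw ∈ PP := mem_PP.2 D.Wz.symm
  have pa : aa ∈ PP := mem_PP.2 D.Wa.symm
  obtain ⟨c, hc⟩ : ∃ c : Cfsg.Spor.HN, c * V w3w * c⁻¹ ∈ PP := by
    have h1 : IsConj (ψ Cfsg.Agent.HN.Syl.d) W0 := by
      rcases Classes.inv_class (u := ψ Cfsg.Agent.HN.Syl.d) (by
        rw [orderOf_injective _ emb.inj, HFacts.order_d]) with h2 | h2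
      · exact (Cfsg.Agent.KFacts.HN.hd h2.symm).elim
      · exact h2
    obtain ⟨c, hc⟩ := isConj_iff.1 h1
    refine ⟨c, mem_PP.2 ?_⟩
    rw [← hc, w3w_eq]
    have h2 : ψ (hw w3) * ψ Cfsg.Agent.HN.Syl.d = ψ Cfsg.Agent.HN.Syl.d * ψ (hw w3) := by
      rw [← map_mul, ← map_mul, HFacts.d_comm]
    calc c * ψ (hw w3) * c⁻¹ * (c * ψ Cfsg.Agent.HN.Syl.d * c⁻¹) = c * (ψ (hw w3) * ψ Cfsg.Agent.HN.Syl.d) * c⁻¹ := by
          group
      _ = c * (ψ Cfsg.Agent.HN.Syl.d * ψ (hw w3)) * c⁻¹ := by rw [h2]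
      _ = _ := by group
  have o1 : orderOf (⟨V zw, p1⟩ : PP) = 5 := orderOf_eq_prime (Subtype.ext w1_5)
    (fun h => ne_w1 (congrArg Subtype.val h))
  have oa : orderOf (⟨aa, pa⟩ : PP) = 5 := orderOf_eq_prime (Subtype.ext aa_5)
    (fun h => ne_aa (congrArg Subtype.val h))
  have o3 : orderOf (⟨c * V w3w * c⁻¹, hc⟩ : PP) = 5 := by
    refine orderOf_eq_prime (Subtype.ext ?_) (fun h => ne_w3 (conj_eq_one_iff.1 (congrArg Subtype.val h)))
    change (c * V w3w * c⁻¹) ^ 5 = 1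
    rw [conj_pow, w3_5, mul_one, mul_inv_cancel]
  have back : RepOf (c * V w3w * c⁻¹) (V w3w) := by
    have := RepOf.of_conj c⁻¹ (c * V w3w * c⁻¹)
    have e : c⁻¹ * (c * V w3w * c⁻¹) * c⁻¹⁻¹ = V w3w := by group
    rwa [e] at this
  obtain ⟨k1, t1⟩ := exists_ty o1
  obtain ⟨ka, ta⟩ := exists_ty oa
  obtain ⟨k3, t3⟩ := exists_ty o3
  obtain ⟨k, t⟩ := exists_ty hx
  have n1a : ka ≠ k1 := by
    rintro rfl
    exact not_a_w1 (repOf_of_ty oa o1 ta t1)
  have na3 : ka ≠ k3 := by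
    rintro rfl
    exact not_a_w3 ((repOf_of_ty oa o3 ta t3).trans back)
  have n13 : k1 ≠ k3 := by
    rintro rfl
    exact not_w1_w3 ((repOf_of_ty o1 o3 t1 t3).trans back)
  rcases fin3 k1 k3 ka k n13 n1a.symm na3.symm with rfl | rfl | rfl
  · exact Or.inl (repOf_of_ty hx o1 t t1)
  · exact Or.inr (Or.inl ((repOf_of_ty hx o3 t t3).trans back))
  · exact Or.inr (Or.inr (repOf_of_ty hx oa t ta))

/-! ### All elements of order 5 -/

/-- the four representatives -/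
def Four (r : Cfsg.Spor.HN) : Prop := r = V zw ∨ r = V w2w ∨ r = V w3w ∨ r = aa

theorem exists_rep {x : Cfsg.Spor.HN} (hx : orderOf x = 5) : ∃ r, Four r ∧ RepOf x r := by
  have hfin : Finite Cfsg.Spor.HN := Nat.finite_of_card_ne_zero (by rw [card_HN]; norm_num)
  have : Fact (Nat.Prime 2) := ⟨Nat.prime_two⟩
  obtain ⟨_, _, _, _, _, _, D⟩ := dat
  obtain ⟨s, hs2, hs1, hsx⟩ := D.exists_inv (by rw [card_HN]; norm_num) hx
  have hs : orderOf s = 2 := orderOf_eq_prime (by rw [pow_two]; exact hs2) hs1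
  have conjx : ∀ c : Cfsg.Spor.HN, orderOf (c * x * c⁻¹) = 5 := fun c => by
    rw [← hx]; exact MulEquiv.orderOf_eq (MulAut.conj c) x
  rcases Classes.inv_class hs with h | h
  · obtain ⟨c, hc⟩ := isConj_iff.1 h
    have h1 : c * x * c⁻¹ * ψ τ = ψ τ * (c * x * c⁻¹) := by
      rw [← hc]
      calc c * x * c⁻¹ * (c * s * c⁻¹) = c * (x * s) * c⁻¹ := by group
        _ = c * (s * x) * c⁻¹ := by rw [hsx]
        _ = _ := by group
    obtain ⟨y, hy⟩ := emb.cent _ h1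
    have hy5 : orderOf y = 5 := by
      rw [← orderOf_injective ψ emb.inj, hy, conjx]
    obtain ⟨g, m, hm1, hm5, w, hw', hg⟩ := five_conj hy5
    have hm : m % 5 ≠ 0 := by omega
    have e5 : (hw w) ^ 5 = 1 := by
      rcases hw' with rfl | rfl | rfl
      · exact w1_five
      · exact w2_five
      · exact w3_five
    have h2 : RepOf x (ψ (hw w)) := by
      have h3 : RepOf y (hw w) := repOf_of_pow (i := 1) e5 hm (by rw [pow_one]; exact hg)
      have h4 := h3.map ψ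
      rw [hy] at h4
      exact (RepOf.of_conj c x).trans h4
    refine ⟨ψ (hw w), ?_, h2⟩
    rcases hw' with rfl | rfl | rfl
    · exact Or.inl zw_eq.symm
    · exact Or.inr (Or.inl w2w_eq.symm)
    · exact Or.inr (Or.inr (Or.inl w3w_eq.symm))
  · obtain ⟨c, hc⟩ := isConj_iff.1 h
    have h1 : c * x * c⁻¹ ∈ PP := by
      rw [mem_PP, ← hc]
      calc c * x * c⁻¹ * (c * s * c⁻¹) = c * (x * s) * c⁻¹ := by group
        _ = c * (s * x) * c⁻¹ := by rw [hsx]
        _ = _ := by group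
    have ho : orderOf (⟨c * x * c⁻¹, h1⟩ : PP) = 5 := by
      rw [← Subgroup.orderOf_coe]; exact conjx c
    rcases rep_PP ho with h2 | h2 | h2
    · exact ⟨_, Or.inl rfl, (RepOf.of_conj c x).trans h2⟩
    · exact ⟨_, Or.inr (Or.inr (Or.inl rfl)), (RepOf.of_conj c x).trans h2⟩
    · exact ⟨_, Or.inr (Or.inr (Or.inr rfl)), (RepOf.of_conj c x).trans h2⟩

theorem na_HN : ¬ IsMulCommutative Cfsg.Spor.HN := by
  intro hc
  have := Cfsg.Agent.S1701.result.1
  have hfin : Finite Cfsg.Spor.HN := Nat.finite_of_card_ne_zero (by rw [card_HN]; norm_num)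
  let _ : CommGroup Cfsg.Spor.HN := { (inferInstance : Group Cfsg.Spor.HN) with mul_comm := hc.is_comm.comm }
  have := IsSimpleGroup.prime_card (α := Cfsg.Spor.HN)
  rw [card_HN] at this
  exact absurd this (by norm_num)

/-- **all pairs of elements of order 5** -/
theorem wpair {x y : Cfsg.Spor.HN} (hx : orderOf x = 5) (hy : orderOf y = 5) : WPair 5 (⊤ : Subgroup Cfsg.Spor.HN) x y := by
  have := Cfsg.Agent.S1701.result.1
  have hfin : Finite Cfsg.Spor.HN := Nat.finite_of_card_ne_zero (by rw [card_HN]; norm_num)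
  obtain ⟨r, hr, hxr⟩ := exists_rep hx
  obtain ⟨s, hs, hys⟩ := exists_rep hy
  have d12 := wpair_of_prd DataB.prd_w1_w2
  have d13 := wpair_of_prd DataB.prd_w1_w3
  have d1a := wpair_of_prd DataB.prd_w1_a
  have d23 := wpair_of_prd DataB.prd_w2_w3
  have d2a := wpair_of_prd DataB.prd_w2_a
  have d3a := wpair_of_prd DataB.prd_w3_a
  rcases hr with rfl | rfl | rfl | rfl <;> rcases hs with rfl | rfl | rfl | rfl
  · exact wpair_of_same na_HN hxr hys ne_w1
  · exact wpair_of_rep hxr hys d12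
  · exact wpair_of_rep hxr hys d13
  · exact wpair_of_rep hxr hys d1a
  · exact wpair_of_rep hxr hys (WPair.symm' d12)
  · exact wpair_of_same na_HN hxr hys ne_w2
  · exact wpair_of_rep hxr hys d23
  · exact wpair_of_rep hxr hys d2a
  · exact wpair_of_rep hxr hys (WPair.symm' d13)
  · exact wpair_of_rep hxr hys (WPair.symm' d23)
  · exact wpair_of_same na_HN hxr hys ne_w3
  · exact wpair_of_rep hxr hys d3a
  · exact wpair_of_rep hxr hys (WPair.symm' d1a)
  · exact wpair_of_rep hxr hys (WPair.symm' d2a)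
  · exact wpair_of_rep hxr hys (WPair.symm' d3a)
  · exact wpair_of_same na_HN hxr hys ne_aa

end Cfsg.Agent.H536.T5
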