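import Cfsg.Agent.H536.T5.Five_m3
import Cfsg.Agent.HN.XWords
import Cfsg.Agent.HN.A12Group
import Cfsg.Agent.Lib.PackFast
import Cfsg.Agent.Prune
set_option linter.all false
prune_inst 0x7f00000000000000000000000000000000000000000000000000000000000000000000000000000000000000000000000000000000000000000000000000000000000000000000000000000000000000003fffffffffffffffffffffffffffbeffbdffffffff
open scoped Cfsg.Agent.FastGrp

/-!
# The Harada–Norton group: generators of a Sylow 5-subgroup, checked in the 133-dimensional representation (helper536)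
-/

set_option autoImplicit false
set_option maxRecDepth 100000

namespace Cfsg.Agent.H536.T5

open Cfsg.Agent.HN.XWords (V)

/-- the word of `G1` -/
def g1w : List ℕ := [4, 2, 4, 2, 2, 0, 2, 0, 2, 2, 4, 3, 1, 3, 3, 4]
/-- the word of `G2` -/
def g2w : List ℕ := [4, 3, 7, 3, 7, 3, 4, 6, 3, 3, 3, 4]
/-- the word of a class 5A element of `HS` -/
def zw : List ℕ := [0, 2, 4, 2, 0, 2, 2, 2, 1, 3, 3, 4, 2, 4, 0, 2, 4, 1]

/-- an element of class 5C of `HN` -/
noncomputable def aa : Cfsg.Spor.HN := V g1w * V g2w * V g1w * V g2w * V [3]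

namespace DataA

open Cfsg.Agent.Lib.PackMat Cfsg.Agent.Lib.PackMatGroup Cfsg.Agent.Lib.PackMatMul Cfsg.Agent.HN.RepData
open Cfsg.Agent.HN.Rep (L LG gens rho)
open Cfsg.Agent.HN Cfsg.Agent.H536.T5.Prog

/-- the straight line program -/
def prog : List (ℕ × List ℕ) := [
  (4, [4]),
  (5, [3, 5, 3, 3, 1, 3, 1, 3, 3, 5, 4, 2, 4, 4, 5]),
  (6, [5, 9, 5, 9, 5, 6, 8, 5, 5, 5, 6]),
  (7, [5, 5, 5, 10, 7, 5, 9, 5, 9, 5, 7]),
  (2, [1, 2, 1, 7]),
  (5, [7, 9, 7, 5, 7, 7, 7, 6, 8, 8, 9, 7, 9, 5, 7, 9, 6]),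
  (9, [6, 9, 10, 9, 6, 8, 7, 8, 7, 8, 10, 7, 9, 9, 7, 9, 6, 6, 10, 9, 6, 9, 6, 9, 7, 8, 10, 8, 7, 8]),
  (2, [2]),
  (0, [0]),
  (0, [4]),
  (3, [3]),
  (0, [0]),
  (0, [5]),
  (8, [6, 4, 1]),
  (0, [0]),
  (0, [0]),
  (0, [2]),
  (12, [3, 8, 1]),
  (0, [0]),
  (0, [0]),
  (0, [2]),
  (16, [3, 12, 1]),
  (0, [0]),
  (0, [0]),
  (0, [2]),
  (19, [19]),
  (0, [20]),
  (1, [1]),
  (0, [22]),
  (23, [7]),
  (8, [24]),
  (25, [13]),
  (14, [26]),
  (27, [19]),
  (20, [28]),
  (29, [28]),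
  (29, [30]),
  (31, [32]),
  (33, [32]),
  (17, [21]),
  (22, [18]),
  (19, [27]),
  (28, [20]),
  (21, [36]),
  (18, [37, 22]),
  (27, [31]),
  (19, [32, 28]),
  (29, [40]),
  (22, [41, 30]),
  (35, [42]),
  (43, [36]),
  (46, [29]),
  (30, [47]),
  (48, [35]),
  (32, [36, 49]),
  (50, [41]),
  (38, [42, 51]),
  (52, [50]),
  (44, [51, 53]),
  (59, [59]),
  (54, [0]),
  (1, [55]),
  (2, [40]),
  (45, [47, 36, 3]),
  (4, [46]),
  (43, [49, 53, 37, 5]),
  (6, [52]),
  (51, [55, 41, 7]),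
  (8, [61]),
  (62, [9]),
  (72, [72, 72, 70, 70]),
  (0, [66]),
  (67, [1]),
  (2, [67]),
  (68, [3]),
  (72, [78, 72, 77, 71, 15, 71]),
  (0, [0]),
  (1, [55]),
  (56, [2]),
  (3, [8]),
  (0, [0]),
  (59, [63, 53]),
  (2, [0]),
  (1, [3]),
  (77, [79]),
  (78, [0]),
  (79, [0]),
  (80, [0]),
  (3, [3]),
  (0, [0]),
  (0, [5]),
  (5, [5]),
  (0, [0]),
  (0, [7]),
  (7, [7]),
  (0, [0]),
  (0, [9]),
  (9, [9]),
  (0, [0]),
  (0, [11])]

/-- the equalities -/
def es : List (ℕ × ℕ) := [(90, 99), (87, 99), (83, 99), (79, 99), (75, 99), (71, 99), (70, 69), (68, 67), (66, 65), (64, 63), (62, 61), (60, 59), (58, 57), (56, 55), (54, 53), (52, 51), (50, 49), (48, 47), (46, 45), (44, 43), (42, 41), (39, 38), (37, 36), (35, 34), (33, 32), (31, 30), (28, 27), (26, 25), (23, 99), (22, 21), (19, 99), (17, 16)]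

/-- the inequalities -/
def ns : List (ℕ × ℕ) := [(94, 99), (29, 99), (40, 99), (24, 99), (20, 99), (9, 99), (6, 99), (3, 99), (0, 99)]

/-- the first five steps -/
def P1a : List (ℕ × List ℕ) := [
  (4, [4]),
  (5, [3, 5, 3, 3, 1, 3, 1, 3, 3, 5, 4, 2, 4, 4, 5]),
  (6, [5, 9, 5, 9, 5, 6, 8, 5, 5, 5, 6]),
  (7, [5, 5, 5, 10, 7, 5, 9, 5, 9, 5, 7]),
  (2, [1, 2, 1, 7])]

/-- the next two steps -/
def P1b : List (ℕ × List ℕ) := [
  (5, [7, 9, 7, 5, 7, 7, 7, 6, 8, 8, 9, 7, 9, 5, 7, 9, 6]),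
  (9, [6, 9, 10, 9, 6, 8, 7, 8, 7, 8, 10, 7, 9, 9, 7, 9, 6, 6, 10, 9, 6, 9, 6, 9, 7, 8, 10, 8, 7, 8])]

/-- the next 52 steps -/
def P2 : List (ℕ × List ℕ) := [
  (2, [2]),
  (0, [0]),
  (0, [4]),
  (3, [3]),
  (0, [0]),
  (0, [5]),
  (8, [6, 4, 1]),
  (0, [0]),
  (0, [0]),
  (0, [2]),
  (12, [3, 8, 1]),
  (0, [0]),
  (0, [0]),
  (0, [2]),
  (16, [3, 12, 1]),
  (0, [0]),
  (0, [0]),
  (0, [2]),
  (19, [19]),
  (0, [20]),
  (1, [1]),
  (0, [22]),
  (23, [7]),
  (8, [24]),
  (25, [13]),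
  (14, [26]),
  (27, [19]),
  (20, [28]),
  (29, [28]),
  (29, [30]),
  (31, [32]),
  (33, [32]),
  (17, [21]),
  (22, [18]),
  (19, [27]),
  (28, [20]),
  (21, [36]),
  (18, [37, 22]),
  (27, [31]),
  (19, [32, 28]),
  (29, [40]),
  (22, [41, 30]),
  (35, [42]),
  (43, [36]),
  (46, [29]),
  (30, [47]),
  (48, [35]),
  (32, [36, 49]),
  (50, [41]),
  (38, [42, 51]),
  (52, [50]),
  (44, [51, 53])]

/-- the next 52 steps, without those not used later -/
def P2m : List (ℕ × List ℕ) := [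
  (2, [2]),
  (0, [0]),
  (0, []),
  (3, [3]),
  (0, [0]),
  (0, []),
  (8, [6, 4, 1]),
  (0, [0]),
  (0, [0]),
  (0, []),
  (12, [3, 8, 1]),
  (0, [0]),
  (0, [0]),
  (0, []),
  (16, [3, 12, 1]),
  (0, []),
  (0, []),
  (0, []),
  (19, [19]),
  (0, [20]),
  (1, [1]),
  (0, []),
  (0, []),
  (0, []),
  (0, []),
  (0, []),
  (0, []),
  (0, []),
  (0, []),
  (0, []),
  (0, []),
  (0, []),
  (0, []),
  (0, []),
  (0, []),
  (0, []),
  (0, []),
  (0, []),
  (0, []),
  (0, []),
  (0, []),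
  (0, []),
  (0, []),
  (0, []),
  (0, []),
  (0, []),
  (0, []),
  (0, []),
  (0, []),
  (0, []),
  (0, []),
  (0, [])]

/-- the last 41 steps -/
def P3 : List (ℕ × List ℕ) := [
  (59, [59]),
  (54, [0]),
  (1, [55]),
  (2, [40]),
  (45, [47, 36, 3]),
  (4, [46]),
  (43, [49, 53, 37, 5]),
  (6, [52]),
  (51, [55, 41, 7]),
  (8, [61]),
  (62, [9]),
  (72, [72, 72, 70, 70]),
  (0, [66]),
  (67, [1]),
  (2, [67]),
  (68, [3]),
  (72, [78, 72, 77, 71, 15, 71]),
  (0, [0]),
  (1, [55]),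
  (56, [2]),
  (3, [8]),
  (0, [0]),
  (59, [63, 53]),
  (2, [0]),
  (1, [3]),
  (77, [79]),
  (78, [0]),
  (79, [0]),
  (80, [0]),
  (3, [3]),
  (0, [0]),
  (0, [5]),
  (5, [5]),
  (0, [0]),
  (0, [7]),
  (7, [7]),
  (0, [0]),
  (0, [9]),
  (9, [9]),
  (0, [0]),
  (0, [11])]

/-- the first equalities -/
def es2 : List (ℕ × ℕ) := [(49, 58), (46, 58), (42, 58), (38, 58), (34, 58), (30, 58), (29, 28), (27, 26), (25, 24), (23, 22), (21, 20), (19, 18), (17, 16), (15, 14), (13, 12), (11, 10), (9, 8), (7, 6), (5, 4), (3, 2), (1, 0)]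

/-- the first inequalities -/
def ns2 : List (ℕ × ℕ) := [(53, 58)]

/-- the last equalities -/
def es3 : List (ℕ × ℕ) := [(39, 38), (37, 36), (35, 34), (33, 32), (31, 30), (28, 27), (26, 25), (23, 99), (22, 21), (19, 99), (17, 16)]

/-- the last inequalities -/
def ns3 : List (ℕ × ℕ) := [(29, 99), (40, 99), (24, 99), (20, 99), (9, 99), (6, 99), (3, 99), (0, 99)]

/-- the steps used for the last equalities and inequalities -/
def gs : List Bool := [true, true, false, true, true, false, true, true, true, false, true, true, true, false, true, false, false, false, true, true, true, false, false, false, false, false, false, false, false, false, false, false, false, false, false, false, false, false, false, false, false, false, false, false, false, false, false, false, false, false, false, false, true, true, true, true, true, true, true, true, true, true, true, true, true, true, true, true, true, true, true, true, true, true, true, true, true, true, true,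 true, true, true, true, true, true, true, true, true, true, true, true, true, true]

/-- the first seven results and the letters are good -/
def m0 : List Bool := List.replicate 15 true

set_option Elab.async false in
theorem chkA1 : Cut.checkE C P1a L L5 = true := by (rewrite [show @Cfsg.Agent.H536.T5.Cut.checkE = delta% @Cfsg.Agent.H536.T5.Cut.checkE from by delta Cfsg.Agent.H536.T5.Cut.checkE; rfl, Cfsg.Agent.Lib.PackFast.withM_fast]; decide +kernel)

set_option Elab.async false in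
theorem chkA2 : Cut.checkE C P1b L5 L7 = true := by (rewrite [show @Cfsg.Agent.H536.T5.Cut.checkE = delta% @Cfsg.Agent.H536.T5.Cut.checkE from by delta Cfsg.Agent.H536.T5.Cut.checkE; rfl, Cfsg.Agent.Lib.PackFast.withM_fast]; decide +kernel)

set_option Elab.async false in
theorem chkB1 : checkS C P2 es2 ns2 L7 = true := by (rewrite [show @Cfsg.Agent.Lib.PackMatMul.checkS = delta% @Cfsg.Agent.Lib.PackMatMul.checkS from by delta Cfsg.Agent.Lib.PackMatMul.checkS; rfl, Cfsg.Agent.Lib.PackFast.withM_fast]; decide +kernel)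

set_option Elab.async false in
theorem chkB2 : checkS C (P2m ++ P3) es3 ns3 L7 = true := by (rewrite [show @Cfsg.Agent.Lib.PackMatMul.checkS = delta% @Cfsg.Agent.Lib.PackMatMul.checkS from by delta Cfsg.Agent.Lib.PackMatMul.checkS; rfl, Cfsg.Agent.Lib.PackFast.withM_fast]; decide +kernel)

theorem prog_eq : prog = P1a ++ (P1b ++ (P2 ++ P3)) := by decide

theorem prog_run : runG prog LG = runG P3 (runG P2 (runG P1b (runG P1a LG))) := by
  rw [prog_eq, Cut.runG_append, Cut.runG_append, Cut.runG_append]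

theorem codes7 : List.Forall₂ (CodesR C) (runG P1b (runG P1a LG)) L7 :=
  Cut.checkE_sound (good_of_check Rep.good)
    (Cut.checkE_sound (good_of_check Rep.good) A12Group.codesR chkA1) chkA2

theorem sound2 : (∀ q ∈ es2, (runG prog LG).getD (41 + q.1) 1 = (runG prog LG).getD (41 + q.2) 1) ∧
    (∀ q ∈ ns2, (runG prog LG).getD (41 + q.1) 1 ≠ (runG prog LG).getD (41 + q.2) 1) := by
  have h := checkS_sound (good_of_check Rep.good) codes7 chkB1 (by decide)
  have e : ∀ k, (runG prog LG).getD (41 + k) 1 = (runG P2 (runG P1b (runG P1a LG))).getD k 1 := fun k => by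
    rw [prog_run]
    exact runG_getD_add P3 _ k
  simp only [e]
  exact h

theorem mask_ok : Cut.okM gs (P2 ++ P3) (P2m ++ P3) m0 = true := by decide

theorem agree (i : ℕ) (hi : (Cut.fm gs m0).getD i false = true) :
    (runG prog LG).getD i 1 = (runG (P2m ++ P3) (runG P1b (runG P1a LG))).getD i 1 := by
  rw [prog_run, ← Cut.runG_append P2 P3]
  exact Cut.okM_sound gs _ _ m0 _ _ (fun _ _ => rfl) mask_ok i hi

theorem sound3 : (∀ q ∈ es3, (runG prog LG).getD q.1 1 = (runG prog LG).getD q.2 1) ∧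
    (∀ q ∈ ns3, (runG prog LG).getD q.1 1 ≠ (runG prog LG).getD q.2 1) := by
  obtain ⟨h1, h2⟩ := checkS_sound (good_of_check Rep.good) codes7 chkB2 (by decide)
  have hg : ∀ q ∈ es3 ++ ns3, (Cut.fm gs m0).getD q.1 false = true ∧ (Cut.fm gs m0).getD q.2 false = true := by decide
  refine ⟨fun q hq => ?_, fun q hq => ?_⟩
  · obtain ⟨ha, hb⟩ := hg q (List.mem_append_left _ hq)
    rw [agree _ ha, agree _ hb]
    exact h1 q hq
  · obtain ⟨ha, hb⟩ := hg q (List.mem_append_right _ hq)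
    rw [agree _ ha, agree _ hb]
    exact h2 q hq

theorem es_eq : es = es2.map (fun q => (41 + q.1, 41 + q.2)) ++ es3 := by decide

theorem ns_eq : ns = ns2.map (fun q => (41 + q.1, 41 + q.2)) ++ ns3 := by decide

theorem sound : (∀ q ∈ es, (runG prog LG).getD q.1 1 = (runG prog LG).getD q.2 1) ∧
    (∀ q ∈ ns, (runG prog LG).getD q.1 1 ≠ (runG prog LG).getD q.2 1) := by
  rw [es_eq, ns_eq]
  refine ⟨fun q hq => ?_, fun q hq => ?_⟩
  · rcases List.mem_append.mp hq with h | h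
    · obtain ⟨r, hr, rfl⟩ := List.mem_map.mp h
      exact sound2.1 r hr
    · exact sound3.1 q h
  · rcases List.mem_append.mp hq with h | h
    · obtain ⟨r, hr, rfl⟩ := List.mem_map.mp h
      exact sound2.2 r hr
    · exact sound3.2 q h

/-- the results in the presented group -/
noncomputable def R (i : ℕ) : Cfsg.Spor.HN := (runG prog gens).getD i 1

theorem rho_R (i : ℕ) : rho (R i) = (runG prog LG).getD i 1 := by
  unfold R
  rw [← Rep.gens_map, runG_map, List.getD_eq_getElem?_getD, List.getD_eq_getElem?_getD, List.getElem?_map]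
  cases (runG prog gens)[i]? with
  | none => simp
  | some b => simp

theorem mul_evG (g : Cfsg.Spor.HN) (w : List ℕ) :
    g * evG (runG prog gens) w = w.foldl (fun g j => g * R j) g := by
  induction w generalizing g with
  | nil => rw [evG_nil, mul_one]; rfl
  | cons i w ih => rw [evG_cons, ← mul_assoc, ih]; rfl

/-- the steps -/
theorem st (k i : ℕ) (w : List ℕ) (hk : k < prog.length) (h : wordAt prog k = i :: w) :
    R k = w.foldl (fun g j => g * R j) (R i) := by
  rw [← mul_evG]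
  exact runG_word prog gens hk h

/-- the words in the letters -/
theorem sw (k : ℕ) (w : List ℕ) (hk : k < prog.length) (h : wordAt prog k = w.map (· + 100)) : R k = V w := by
  have e : R k = evG (runG prog gens) (w.map (· + 100)) := runG_word prog gens hk h
  rw [e, V]
  refine evG_shift (fun c => ?_) w
  rw [add_comm]
  exact runG_getD_add prog gens c

theorem eqn [IsSimpleGroup Cfsg.Spor.HN] (i j : ℕ) (h : (i, j) ∈ es) : R i = R j :=
  A12Group.rho_injective (by rw [rho_R, rho_R]; exact sound.1 (i, j) h)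

theorem neq (i j : ℕ) (h : (i, j) ∈ ns) : R i ≠ R j := fun e =>
  sound.2 (i, j) h (by rw [← rho_R, ← rho_R, e])

theorem pow5 {G : Type*} [Group G] {x x2 x4 x5 : G} (h2 : x2 = x * x) (h4 : x4 = x2 * x2) (h5 : x5 = x4 * x) :
    x4 = x ^ 4 ∧ x5 = x ^ 5 := by
  have e4 : x4 = x ^ 4 := by rw [h4, h2]; simp only [pow_succ, pow_zero, one_mul, mul_assoc]
  exact ⟨e4, by rw [h5, e4, ← pow_succ]⟩

theorem s_a : R 95 = R 98 * R 97 * R 98 * R 97 * R 103 := st 95 98 [97, 98, 97, 103] (by decide) (by decide)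
theorem s_a2 : R 92 = R 95 * R 95 := st 92 95 [95] (by decide) (by decide)
theorem s_aI : R 91 = R 92 * R 92 := st 91 92 [92] (by decide) (by decide)
theorem s_a5 : R 90 = R 91 * R 95 := st 90 91 [95] (by decide) (by decide)
theorem s_n4_2 : R 89 = R 93 * R 93 := st 89 93 [93] (by decide) (by decide)
theorem s_n4I : R 88 = R 89 * R 89 := st 88 89 [89] (by decide) (by decide)
theorem s_n4_5 : R 87 = R 88 * R 93 := st 87 88 [93] (by decide) (by decide)
theorem s_n3 : R 86 = R 95 * R 93 * R 91 * R 88 := st 86 95 [93, 91, 88] (by decide) (by decide)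
theorem s_n3_2 : R 85 = R 86 * R 86 := st 85 86 [86] (by decide) (by decide)
theorem s_n3I : R 84 = R 85 * R 85 := st 84 85 [85] (by decide) (by decide)
theorem s_n3_5 : R 83 = R 84 * R 86 := st 83 84 [86] (by decide) (by decide)
theorem s_n2 : R 82 = R 95 * R 86 * R 91 * R 84 := st 82 95 [86, 91, 84] (by decide) (by decide)
theorem s_n2_2 : R 81 = R 82 * R 82 := st 81 82 [82] (by decide) (by decide)
theorem s_n2I : R 80 = R 81 * R 81 := st 80 81 [81] (by decide) (by decide)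
theorem s_n2_5 : R 79 = R 80 * R 82 := st 79 80 [82] (by decide) (by decide)
theorem s_n1_2 : R 77 = R 78 * R 78 := st 77 78 [78] (by decide) (by decide)
theorem s_n1I : R 76 = R 77 * R 77 := st 76 77 [77] (by decide) (by decide)
theorem s_n1_5 : R 75 = R 76 * R 78 := st 75 76 [78] (by decide) (by decide)
theorem s_z2 : R 74 = R 94 * R 94 := st 74 94 [94] (by decide) (by decide)
theorem s_z3 : R 73 = R 74 * R 94 := st 73 74 [94] (by decide) (by decide)
theorem s_z4 : R 72 = R 74 * R 74 := st 72 74 [74] (by decide) (by decide)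
theorem s_z5 : R 71 = R 72 * R 94 := st 71 72 [94] (by decide) (by decide)
theorem s_zn1l : R 70 = R 94 * R 78 := st 70 94 [78] (by decide) (by decide)
theorem s_zn1r : R 69 = R 78 * R 94 := st 69 78 [94] (by decide) (by decide)
theorem s_zn2l : R 68 = R 94 * R 82 := st 68 94 [82] (by decide) (by decide)
theorem s_zn2r : R 67 = R 82 * R 94 := st 67 82 [94] (by decide) (by decide)
theorem s_zn3l : R 66 = R 94 * R 86 := st 66 94 [86] (by decide) (by decide)
theorem s_zn3r : R 65 = R 86 * R 94 := st 65 86 [94] (by decide) (by decide)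
theorem s_zn4l : R 64 = R 94 * R 93 := st 64 94 [93] (by decide) (by decide)
theorem s_zn4r : R 63 = R 93 * R 94 := st 63 93 [94] (by decide) (by decide)
theorem s_zal : R 62 = R 94 * R 95 := st 62 94 [95] (by decide) (by decide)
theorem s_zar : R 61 = R 95 * R 94 := st 61 95 [94] (by decide) (by decide)
theorem s_n12l : R 60 = R 78 * R 82 := st 60 78 [82] (by decide) (by decide)
theorem s_n12r : R 59 = R 82 * R 78 := st 59 82 [78] (by decide) (by decide)
theorem s_n13l : R 58 = R 78 * R 86 := st 58 78 [86] (by decide) (by decide)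
theorem s_n13r : R 57 = R 86 * R 78 := st 57 86 [78] (by decide) (by decide)
theorem s_n14l : R 56 = R 78 * R 93 := st 56 78 [93] (by decide) (by decide)
theorem s_n14r : R 55 = R 74 * R 93 * R 78 := st 55 74 [93, 78] (by decide) (by decide)
theorem s_n23l : R 54 = R 82 * R 86 := st 54 82 [86] (by decide) (by decide)
theorem s_n23r : R 53 = R 73 * R 86 * R 82 := st 53 73 [86, 82] (by decide) (by decide)
theorem s_n24l : R 52 = R 82 * R 93 := st 52 82 [93] (by decide) (by decide)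
theorem s_n24r : R 51 = R 74 * R 93 * R 82 := st 51 74 [93, 82] (by decide) (by decide)
theorem s_n34l : R 50 = R 86 * R 93 := st 50 86 [93] (by decide) (by decide)
theorem s_n34r : R 49 = R 93 * R 86 := st 49 93 [86] (by decide) (by decide)
theorem s_an1l : R 48 = R 95 * R 78 := st 48 95 [78] (by decide) (by decide)
theorem s_an1r : R 47 = R 78 * R 95 := st 47 78 [95] (by decide) (by decide)
theorem s_an2l : R 46 = R 95 * R 82 := st 46 95 [82] (by decide) (by decide)
theorem s_an2r : R 45 = R 78 * R 82 * R 95 := st 45 78 [82, 95] (by decide) (by decide)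
theorem s_an3l : R 44 = R 95 * R 86 := st 44 95 [86] (by decide) (by decide)
theorem s_an3r : R 43 = R 82 * R 86 * R 95 := st 43 82 [86, 95] (by decide) (by decide)
theorem s_an4l : R 42 = R 95 * R 93 := st 42 95 [93] (by decide) (by decide)
theorem s_an4r : R 41 = R 86 * R 93 * R 95 := st 41 86 [93, 95] (by decide) (by decide)
theorem s_ztl : R 39 = R 94 * R 40 := st 39 94 [40] (by decide) (by decide)
theorem s_ztr : R 38 = R 40 * R 94 := st 38 40 [94] (by decide) (by decide)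
theorem s_tn1l : R 37 = R 40 * R 78 := st 37 40 [78] (by decide) (by decide)
theorem s_tn1r : R 36 = R 82 * R 84 * R 73 * R 40 := st 36 82 [84, 73, 40] (by decide) (by decide)
theorem s_tn2l : R 35 = R 40 * R 82 := st 35 40 [82] (by decide) (by decide)
theorem s_tn2r : R 34 = R 78 * R 84 * R 88 * R 72 * R 40 := st 34 78 [84, 88, 72, 40] (by decide) (by decide)
theorem s_tn3l : R 33 = R 40 * R 86 := st 33 40 [86] (by decide) (by decide)
theorem s_tn3r : R 32 = R 84 * R 88 * R 74 * R 40 := st 32 84 [88, 74, 40] (by decide) (by decide)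
theorem s_tn4l : R 31 = R 40 * R 93 := st 31 40 [93] (by decide) (by decide)
theorem s_tn4r : R 30 = R 93 * R 40 := st 30 93 [40] (by decide) (by decide)
theorem s_Wal : R 28 = R 29 * R 95 := st 28 29 [95] (by decide) (by decide)
theorem s_War : R 27 = R 95 * R 29 := st 27 95 [29] (by decide) (by decide)
theorem s_Wzl : R 26 = R 29 * R 94 := st 26 29 [94] (by decide) (by decide)
theorem s_Wzr : R 25 = R 94 * R 29 := st 25 94 [29] (by decide) (by decide)
theorem s_v : R 24 = R 97 * R 103 * R 97 * R 102 * R 96 * R 40 * R 96 := st 24 97 [103, 97, 102, 96, 40, 96] (by decide) (by decide)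
theorem s_v2 : R 23 = R 24 * R 24 := st 23 24 [24] (by decide) (by decide)
theorem s_vn1l : R 22 = R 24 * R 78 := st 22 24 [78] (by decide) (by decide)
theorem s_vn1r : R 21 = R 78 * R 24 := st 21 78 [24] (by decide) (by decide)
theorem s_u2 : R 19 = R 20 * R 20 := st 19 20 [20] (by decide) (by decide)
theorem s_y : R 18 = R 78 * R 82 * R 72 := st 18 78 [82, 72] (by decide) (by decide)
theorem s_uyl : R 17 = R 20 * R 18 := st 17 20 [18] (by decide) (by decide)
theorem s_uyr : R 16 = R 18 * R 20 := st 16 18 [20] (by decide) (by decide)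
theorem s_p1 : R 15 = R 93 * R 95 := st 15 93 [95] (by decide) (by decide)
theorem s_p2 : R 14 = R 93 * R 15 := st 14 93 [15] (by decide) (by decide)
theorem s_p3 : R 13 = R 93 * R 14 := st 13 93 [14] (by decide) (by decide)
theorem s_p4 : R 12 = R 93 * R 13 := st 12 93 [13] (by decide) (by decide)
theorem s_p1_2 : R 11 = R 15 * R 15 := st 11 15 [15] (by decide) (by decide)
theorem s_p1_4 : R 10 = R 11 * R 11 := st 10 11 [11] (by decide) (by decide)
theorem s_p1_5 : R 9 = R 10 * R 15 := st 9 10 [15] (by decide) (by decide)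
theorem s_p2_2 : R 8 = R 14 * R 14 := st 8 14 [14] (by decide) (by decide)
theorem s_p2_4 : R 7 = R 8 * R 8 := st 7 8 [8] (by decide) (by decide)
theorem s_p2_5 : R 6 = R 7 * R 14 := st 6 7 [14] (by decide) (by decide)
theorem s_p3_2 : R 5 = R 13 * R 13 := st 5 13 [13] (by decide) (by decide)
theorem s_p3_4 : R 4 = R 5 * R 5 := st 4 5 [5] (by decide) (by decide)
theorem s_p3_5 : R 3 = R 4 * R 13 := st 3 4 [13] (by decide) (by decide)
theorem s_p4_2 : R 2 = R 12 * R 12 := st 2 12 [12] (by decide) (by decide)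
theorem s_p4_4 : R 1 = R 2 * R 2 := st 1 2 [2] (by decide) (by decide)
theorem s_p4_5 : R 0 = R 1 * R 12 := st 0 1 [12] (by decide) (by decide)
theorem v_id : R 99 = V [4, 4] := sw 99 [4, 4] (by decide) (by decide)
theorem v_G1 : R 98 = V g1w := sw 98 g1w (by decide) (by decide)
theorem v_G2 : R 97 = V g2w := sw 97 g2w (by decide) (by decide)
theorem v_z : R 94 = V zw := sw 94 zw (by decide) (by decide)
theorem v_t : R 40 = V [0, 0] := sw 40 [0, 0] (by decide) (by decide)
theorem v_W : R 29 = V [2, 2, 2, 0, 0] := sw 29 [2, 2, 2, 0, 0] (by decide) (by decide)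
theorem v_Y : R 103 = V [3] := by
  have e : R 103 = gens.getD 3 1 := runG_getD_add prog gens 3
  rw [e]; exact (mul_one _).symm
theorem one : R 99 = 1 := by
  rw [v_id]
  change _ * (_ * 1) = 1
  rw [mul_one]; exact XWords.zz

theorem pw_a : R 91 = R 95 ^ 4 ∧ R 90 = R 95 ^ 5 := pow5 s_a2 s_aI s_a5
theorem pw_n1 : R 76 = R 78 ^ 4 ∧ R 75 = R 78 ^ 5 := pow5 s_n1_2 s_n1I s_n1_5
theorem pw_n2 : R 80 = R 82 ^ 4 ∧ R 79 = R 82 ^ 5 := pow5 s_n2_2 s_n2I s_n2_5
theorem pw_n3 : R 84 = R 86 ^ 4 ∧ R 83 = R 86 ^ 5 := pow5 s_n3_2 s_n3I s_n3_5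
theorem pw_n4 : R 88 = R 93 ^ 4 ∧ R 87 = R 93 ^ 5 := pow5 s_n4_2 s_n4I s_n4_5
theorem pw_z : R 72 = R 94 ^ 4 ∧ R 71 = R 94 ^ 5 := pow5 s_z2 s_z4 s_z5
theorem e_z2 : R 74 = R 94 ^ 2 := by rw [s_z2, pow_two]
theorem e_z3 : R 73 = R 94 ^ 3 := by rw [s_z3, e_z2, ← pow_succ]
theorem pw_p1 : R 10 = R 15 ^ 4 ∧ R 9 = R 15 ^ 5 := pow5 s_p1_2 s_p1_4 s_p1_5
theorem pw_p2 : R 7 = R 14 ^ 4 ∧ R 6 = R 14 ^ 5 := pow5 s_p2_2 s_p2_4 s_p2_5
theorem pw_p3 : R 4 = R 13 ^ 4 ∧ R 3 = R 13 ^ 5 := pow5 s_p3_2 s_p3_4 s_p3_5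
theorem pw_p4 : R 1 = R 12 ^ 4 ∧ R 0 = R 12 ^ 5 := pow5 s_p4_2 s_p4_4 s_p4_5
theorem e_p1 : R 15 = R 93 ^ 1 * R 95 := by rw [s_p1, pow_one]
theorem e_p2 : R 14 = R 93 ^ 2 * R 95 := by rw [s_p2, s_p1, ← mul_assoc, ← pow_two]
theorem e_p3 : R 13 = R 93 ^ 3 * R 95 := by rw [s_p3, e_p2, ← mul_assoc, ← pow_succ']
theorem e_p4 : R 12 = R 93 ^ 4 * R 95 := by rw [s_p4, e_p3, ← mul_assoc, ← pow_succ']

/-- **the relations** -/
theorem dat [IsSimpleGroup Cfsg.Spor.HN] : Five.Dat (R 94) (R 78) (R 82) (R 86) (R 93) (R 95) (R 40) (R 29) (R 24) (R 20) where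
  z5 := by rw [← pw_z.2, eqn 71 99 (by decide), one]
  z1 := by rw [← one]; exact neq 94 99 (by decide)
  a5 := by rw [← pw_a.2, eqn 90 99 (by decide), one]
  p1 := by rw [← pw_n1.2, eqn 75 99 (by decide), one]
  p2 := by rw [← pw_n2.2, eqn 79 99 (by decide), one]
  p3 := by rw [← pw_n3.2, eqn 83 99 (by decide), one]
  p4 := by rw [← pw_n4.2, eqn 87 99 (by decide), one]
  zn1 := by rw [← s_zn1l, ← s_zn1r, eqn 70 69 (by decide)]
  zn2 := by rw [← s_zn2l, ← s_zn2r, eqn 68 67 (by decide)]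
  zn3 := by rw [← s_zn3l, ← s_zn3r, eqn 66 65 (by decide)]
  zn4 := by rw [← s_zn4l, ← s_zn4r, eqn 64 63 (by decide)]
  za := by rw [← s_zal, ← s_zar, eqn 62 61 (by decide)]
  zt := by rw [← s_ztl, ← s_ztr, eqn 39 38 (by decide)]
  n12 := by rw [← s_n12l, ← s_n12r, eqn 60 59 (by decide)]
  n13 := by rw [← s_n13l, ← s_n13r, eqn 58 57 (by decide)]
  n14 := by rw [← e_z2, ← s_n14l, ← s_n14r, eqn 56 55 (by decide)]
  n23 := by rw [← e_z3, ← s_n23l, ← s_n23r, eqn 54 53 (by decide)]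
  n24 := by rw [← e_z2, ← s_n24l, ← s_n24r, eqn 52 51 (by decide)]
  n34 := by rw [← s_n34l, ← s_n34r, eqn 50 49 (by decide)]
  an1 := by rw [← s_an1l, ← s_an1r, eqn 48 47 (by decide)]
  an2 := by rw [← s_an2l, ← s_an2r, eqn 46 45 (by decide)]
  an3 := by rw [← s_an3l, ← s_an3r, eqn 44 43 (by decide)]
  an4 := by rw [← s_an4l, ← s_an4r, eqn 42 41 (by decide)]
  t2 := by
    rw [v_t]
    have h : XWords.V [0, 0] * XWords.V [0, 0] = XWords.V [] := by rw [← XWords.V_append]; exact XWords.V_eq (by decide +kernel)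
    exact h
  t1 := by rw [← one]; exact neq 40 99 (by decide)
  tn1 := by rw [← pw_n3.1, ← e_z3, ← s_tn1l, ← s_tn1r, eqn 37 36 (by decide)]
  tn2 := by rw [← pw_n3.1, ← pw_n4.1, ← pw_z.1, ← s_tn2l, ← s_tn2r, eqn 35 34 (by decide)]
  tn3 := by rw [← pw_n3.1, ← pw_n4.1, ← e_z2, ← s_tn3l, ← s_tn3r, eqn 33 32 (by decide)]
  tn4 := by rw [← s_tn4l, ← s_tn4r, eqn 31 30 (by decide)]
  W2 := by rw [v_W]; exact XWords.W0_sq
  W1 := by rw [← one]; exact neq 29 99 (by decide)
  Wa := by rw [← s_Wal, ← s_War, eqn 28 27 (by decide)]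
  Wz := by rw [← s_Wzl, ← s_Wzr, eqn 26 25 (by decide)]
  v2 := by rw [← s_v2, eqn 23 99 (by decide), one]
  v1 := by rw [← one]; exact neq 24 99 (by decide)
  vn1 := by rw [← s_vn1l, ← s_vn1r, eqn 22 21 (by decide)]
  u2 := by rw [← s_u2, eqn 19 99 (by decide), one]
  u1 := by rw [← one]; exact neq 20 99 (by decide)
  uy := by rw [← pw_z.1, ← s_y, ← s_uyl, ← s_uyr, eqn 17 16 (by decide)]
  q1 := by rw [← e_p1, ← pw_p1.2, ← one]; exact neq 9 99 (by decide)
  q2 := by rw [← e_p2, ← pw_p2.2, ← one]; exact neq 6 99 (by decide)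
  q3 := by rw [← e_p3, ← pw_p3.2, ← one]; exact neq 3 99 (by decide)
  q4 := by rw [← e_p4, ← pw_p4.2, ← one]; exact neq 0 99 (by decide)

theorem a_eq : R 95 = aa := by rw [s_a, v_G1, v_G2, v_Y]; rfl

end DataA

end Cfsg.Agent.H536.T5

private theorem dce_a1347a653842 : _root_.True := by
  try have : _root_.True := by simp only [_root_.Cfsg.Agent.HN.XWords.V.eq_1]
  exact _root_.True.intro
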